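import Cfsg.Agent.Lib.Helper67.LSF.Defs

/-!
# LSF package [BWDCORE] (S5286)

Along a path all of whose letters are fixed by `lam P`, conjugation by the permutation part is a
map of the system.
-/

set_option autoImplicit false

namespace Cfsg.Agent.Lib.Helper88.LSF

open Cfsg Cfsg.Agent.Lib.Helper67.LSF

universe u

variable {Ω : Type u} [Group Ω] {S : Subgroup Ω}

theorem bc_lam_inj {s t : S} (h : lam S s = lam S t) : s = t := by
  have h3 := congrArg (fun e => e 1) h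
  simpa [lam_apply] using h3

/-- The intertwining property as an equation in `Perm S`. -/
theorem bc_sigma_conj {F : FusionSystem S} (i : Idx F) (u : i.P) :
    i.σ * lam S ⟨u, (F.le_of_mem i.mem).1 u.2⟩ * i.σ⁻¹ =
      lam S ⟨i.φ u, (F.le_of_mem i.mem).2 u⟩ := by
  rw [mul_inv_eq_iff_eq_mul]
  refine Equiv.ext fun x => ?_
  simp only [Equiv.Perm.coe_mul, Function.comp_apply, lam_apply]
  exact i.hσ u x

theorem bc_mem_Lam {F : FusionSystem S} (i : Idx F) (q : Equiv.Perm S) (h : q ∈ Lam i) :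
    ∃ u : i.P, q = lam S ⟨u, (F.le_of_mem i.mem).1 u.2⟩ := by
  unfold Lam at h
  obtain ⟨s, hs, rfl⟩ := h
  exact ⟨⟨s.1, hs⟩, rfl⟩

theorem bc_fix {F : FusionSystem S} (i : Idx F) (c r : Equiv.Perm S)
    (h : xperm F r ⟨i, (c : Equiv.Perm S ⧸ Lam i)⟩ = ⟨i, (c : Equiv.Perm S ⧸ Lam i)⟩) :
    c⁻¹ * r * c ∈ Lam i := by
  rw [xperm_mk] at h
  have h2 := eq_of_heq (Sigma.mk.inj h).2
  have h3 := QuotientGroup.eq.mp h2.symm
  simpa [mul_assoc] using h3

/-- [BWDCORE] -/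
theorem pkgBwdCore (hom : PkgHom.{u}) : PkgBwdCore.{u} := by
  intro Ω _ S F L q hpath
  induction hpath with
  | nil s =>
    intro P hP φ hφ _ hq
    have h1 : φ = conjHom P (s : Ω) := by
      ext x
      have h2 := hq x
      rw [← map_mul, ← map_inv, ← map_mul] at h2
      have h3 := bc_lam_inj h2
      have h4 := congrArg Subtype.val h3
      simpa [conjHom] using h4.symm
    rw [h1]
    exact F.conj_mem hP s.2
  | @a s L q hp ih =>
    intro P hP φ hφ hfix hq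
    let ψ : P →* Ω := (MulAut.conj ((s : Ω)⁻¹)).toMonoidHom.comp φ
    have hψS : ∀ x : P, ψ x ∈ S := fun x => by
      show (s : Ω)⁻¹ * φ x * ((s : Ω)⁻¹)⁻¹ ∈ S
      exact S.mul_mem (S.mul_mem (S.inv_mem s.2) (hφ x)) (S.inv_mem (S.inv_mem s.2))
    have hψ : ψ ∈ F.Hom P := by
      refine ih P hP ψ hψS hfix fun x => ?_
      have h2 := hq x
      have h3 : (⟨ψ x, hψS x⟩ : S) = s⁻¹ * ⟨φ x, hφ x⟩ * s := by
        apply Subtype.ext
        simp [ψ]
      rw [h3, map_mul, map_mul, ← h2, map_inv]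
      group
    have hc : conjHom S (s : Ω) ∈ F.Hom S := F.conj_mem le_rfl s.2
    have h5 := F.comp_mem hψ hc hψS
    have h6 : φ = (conjHom S (s : Ω)).comp (ψ.codRestrict S hψS) := by
      ext x
      simp only [conjHom, ψ, MonoidHom.comp_apply, MulEquiv.coe_toMonoidHom, MulAut.conj_apply,
        Subgroup.coe_subtype, MonoidHom.codRestrict_apply, inv_inv]
      group
    rw [h6]
    exact h5
  | @t i L q hp ih =>
    intro P hP φ hφ hfix hq
    have hhead : ∀ x : P, q * lam S ⟨x, hP x.2⟩ * q⁻¹ ∈ Lam i := fun x => by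
      have h1 := hfix x _ List.mem_cons_self
      have h2 := bc_fix i q⁻¹ (lam S ⟨x, hP x.2⟩) h1
      simpa using h2
    obtain ⟨ψ, hψS, hψ⟩ := hom S q P hP (fun x => by
      obtain ⟨u, hu⟩ := bc_mem_Lam i _ (hhead x)
      exact ⟨_, hu⟩)
    have hψP : ∀ x : P, ψ x ∈ i.P := fun x => by
      obtain ⟨u, hu⟩ := bc_mem_Lam i _ (hhead x)
      have h1 := bc_lam_inj ((hψ x).trans hu)
      have h2 : ψ x = (u : Ω) := congrArg Subtype.val h1
      rw [h2]
      exact u.2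
    have hψmem : ψ ∈ F.Hom P :=
      ih P hP ψ hψS (fun x ℓ hℓ => hfix x ℓ (List.mem_cons_of_mem _ hℓ)) (fun x => (hψ x).symm)
    have h5 := F.comp_mem hψmem i.mem hψP
    have h6 : φ = i.φ.comp (ψ.codRestrict i.P hψP) := by
      ext x
      have h7 := hq x
      have h8 := bc_sigma_conj i ⟨ψ x, hψP x⟩
      have h8' : i.σ * lam S ⟨ψ x, hψS x⟩ * i.σ⁻¹ =
          lam S ⟨i.φ ⟨ψ x, hψP x⟩, (F.le_of_mem i.mem).2 _⟩ := h8
      have h9 : lam S ⟨φ x, hφ x⟩ = lam S ⟨i.φ ⟨ψ x, hψP x⟩, (F.le_of_mem i.mem).2 _⟩ := by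
        rw [← h7, ← h8', hψ x]
        group
      exact congrArg Subtype.val (bc_lam_inj h9)
    rw [h6]
    exact h5
  | @t' i L q hp ih =>
    intro P hP φ hφ hfix hq
    have hhead : ∀ x : P, lam S ⟨φ x, hφ x⟩ ∈ Lam i := fun x => by
      have h1 := hfix x _ List.mem_cons_self
      have h2 := bc_fix i (q⁻¹ * i.σ) (lam S ⟨x, hP x.2⟩) h1
      rw [← hq x]
      convert h2 using 1
      group
    have hφP : ∀ x : P, φ x ∈ i.P := fun x => by
      obtain ⟨u, hu⟩ := bc_mem_Lam i _ (hhead x)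
      have h1 := bc_lam_inj hu
      have h2 : φ x = (u : Ω) := congrArg Subtype.val h1
      rw [h2]
      exact u.2
    let ψ : P →* Ω := i.φ.comp (φ.codRestrict i.P hφP)
    have hψS : ∀ x : P, ψ x ∈ S := fun x => (F.le_of_mem i.mem).2 _
    have hψmem : ψ ∈ F.Hom P := by
      refine ih P hP ψ hψS (fun x ℓ hℓ => hfix x ℓ (List.mem_cons_of_mem _ hℓ)) (fun x => ?_)
      have h7 := hq x
      have h8 := bc_sigma_conj i ⟨φ x, hφP x⟩
      have h8' : i.σ * lam S ⟨φ x, hφ x⟩ * i.σ⁻¹ = lam S ⟨ψ x, hψS x⟩ := h8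
      rw [← h8', ← h7]
      group
    obtain ⟨χ, hχ, hχeq⟩ := F.inv_mem i.mem
    have hψR : ∀ x : P, ψ x ∈ i.φ.range := fun x => ⟨_, rfl⟩
    have h5 := F.comp_mem hψmem hχ hψR
    have h6 : φ = χ.comp (ψ.codRestrict i.φ.range hψR) := by
      ext x
      exact (hχeq ⟨φ x, hφP x⟩).symm
    rw [h6]
    exact h5

end Cfsg.Agent.Lib.Helper88.LSF
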